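import Groth.Prelude.Def_W4stkschemesremainderFib
import Groth.Agent.H18Descent.Basic
import Mathlib.AlgebraicGeometry.Morphisms.FlatRank
import Mathlib.AlgebraicGeometry.ResidueField
import Mathlib.RingTheory.Spectrum.Prime.FreeLocus

/-! Degrees of fibres as ranks of finite morphisms to spectra of fields. -/

set_option autoImplicit false

universe u

open CategoryTheory Limits AlgebraicGeometry

namespace Groth.Agent.H26BddFib

variable {K : CommRingCat.{u}} {T : Scheme.{u}}

lemma eq_toSpecΓ_comp (p : T ⟶ Spec K) :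
    p = T.toSpecΓ ≫ Spec.map ((Scheme.ΓSpecIso K).inv ≫ p.appTop) := by
  rw [Spec.map_comp, ← Category.assoc, ← Scheme.toSpecΓ_naturality, Category.assoc]
  have := toSpecΓ_SpecMap_ΓSpecIso_inv K
  rw [this, Category.comp_id]

lemma finite_iff (p : T ⟶ Spec K) :
    IsFinite p ↔ IsAffine T ∧ ((Scheme.ΓSpecIso K).inv ≫ p.appTop).hom.Finite := by
  rw [HasAffineProperty.iff_of_isAffine (P := @IsFinite) (f := p)]
  refine and_congr_right fun _ => ?_
  constructor
  · intro h
    exact RingHom.Finite.comp h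
      (RingHom.Finite.of_surjective _ (ConcreteCategory.bijective_of_isIso (Scheme.ΓSpecIso K).inv).2)
  · intro h
    exact RingHom.Finite.of_comp_finite h

/-- Over a field, bounded degree means finite with bounded rank. -/
theorem finiteOfDegLE_iff (hK : IsField K) (p : T ⟶ Spec K) (n : ℕ) :
    BddFib.FiniteOfDegLE K p n ↔ IsFinite p ∧ ∀ x : Spec K, p.finrank x ≤ n := by
  letI := hK.toField
  letI : Algebra K Γ(T, ⊤) := BddFib.secAlgebra K p
  have key : ∀ [IsAffine T] [Module.Finite K Γ(T, ⊤)] (x : Spec K),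
      p.finrank x = Module.finrank K Γ(T, ⊤) := by
    intro _ _ x
    haveI : IsFinite (Spec.map ((Scheme.ΓSpecIso K).inv ≫ p.appTop)) := by
      rw [IsFinite.SpecMap_iff]; exact RingHom.finite_algebraMap.mpr ‹_›
    haveI : Flat (Spec.map ((Scheme.ΓSpecIso K).inv ≫ p.appTop)) := by
      rw [Flat.SpecMap_iff]; exact RingHom.flat_algebraMap_iff.mpr inferInstance
    conv_lhs => rw [eq_toSpecΓ_comp p, Scheme.Hom.finrank_comp_left_of_isIso]
    have h := Scheme.Hom.finrank_SpecMap_algebraMap K Γ(T, ⊤) x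
    rw [Module.rankAtStalk_eq_finrank_of_free] at h
    exact h
  show (IsAffine T ∧ Module.Finite K Γ(T, ⊤) ∧ Module.finrank K Γ(T, ⊤) ≤ n) ↔ _
  rw [finite_iff]
  constructor
  · rintro ⟨ha, hf, hn⟩
    exact ⟨⟨ha, RingHom.finite_algebraMap.mpr hf⟩, fun x => (key x).le.trans hn⟩
  · rintro ⟨⟨ha, hf⟩, hn⟩
    haveI : Module.Finite K Γ(T, ⊤) := RingHom.finite_algebraMap.mp hf
    exact ⟨ha, inferInstance, (key (Nonempty.some (inferInstanceAs (Nonempty (PrimeSpectrum K))))).ge.trans (hn _)⟩

theorem flat_toSpec (hK : IsField K) (p : T ⟶ Spec K) [IsFinite p] : Flat p := by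
  letI := hK.toField
  letI : Algebra K Γ(T, ⊤) := BddFib.secAlgebra K p
  obtain ⟨ha, -⟩ := (finite_iff p).1 ‹_›
  haveI := ha
  rw [eq_toSpecΓ_comp p]
  haveI : Flat (Spec.map ((Scheme.ΓSpecIso K).inv ≫ p.appTop)) := by
    rw [Flat.SpecMap_iff]; exact RingHom.flat_algebraMap_iff.mpr inferInstance
  infer_instance

theorem of_iso (hK : IsField K) {T' : Scheme.{u}} (e : T' ⟶ T) [IsIso e] (p : T ⟶ Spec K) {n : ℕ}
    (h : BddFib.FiniteOfDegLE K p n) : BddFib.FiniteOfDegLE K (e ≫ p) n := by
  rw [finiteOfDegLE_iff hK] at h ⊢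
  obtain ⟨hf, hn⟩ := h
  haveI := hf
  haveI := flat_toSpec hK p
  exact ⟨inferInstance, fun x => by rw [Scheme.Hom.finrank_comp_left_of_isIso]; exact hn x⟩

/-- Extending the field does not change the degree. -/
theorem of_isPullback {L : CommRingCat.{u}} (hK : IsField K) (hL : IsField L) {T' : Scheme.{u}}
    (p : T ⟶ Spec K) (p' : T' ⟶ Spec L) (g' : T' ⟶ T) (g : Spec L ⟶ Spec K)
    (h : IsPullback g' p' p g) (n : ℕ) :
    BddFib.FiniteOfDegLE K p n ↔ BddFib.FiniteOfDegLE L p' n := by
  rw [finiteOfDegLE_iff hK, finiteOfDegLE_iff hL]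
  haveI : Subsingleton (Spec K) := by
    letI := hK.toField
    exact inferInstanceAs (Subsingleton (PrimeSpectrum K))
  letI := hL.toField
  haveI : Nonempty (Spec L) := inferInstanceAs (Nonempty (PrimeSpectrum L))
  constructor
  · rintro ⟨hf, hn⟩
    haveI := hf
    haveI := flat_toSpec hK p
    exact ⟨MorphismProperty.of_isPullback h hf, fun y => by
      rw [Scheme.Hom.finrank_of_isPullback g' p' p g h y]; exact hn _⟩
  · rintro ⟨hf, hn⟩
    have hff : (H18Descent.fpqc : MorphismProperty Scheme.{u}) g := by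
      refine ⟨⟨⟨fun x => ⟨Classical.arbitrary _, Subsingleton.elim _ _⟩⟩, ?_⟩, inferInstance⟩
      obtain ⟨φ, rfl⟩ := Spec.map_surjective g
      rw [Flat.SpecMap_iff]
      letI := hK.toField
      letI := φ.hom.toAlgebra
      exact RingHom.flat_algebraMap_iff.mpr (inferInstance : Module.Flat K L)
    haveI : IsFinite p := MorphismProperty.of_isPullback_of_descendsAlong (P := @IsFinite) h.flip hff hf
    haveI := flat_toSpec hK p
    refine ⟨inferInstance, fun x => ?_⟩
    rw [Subsingleton.elim x (g (Classical.arbitrary _)), ← Scheme.Hom.finrank_of_isPullback g' p' p g h]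
    exact hn _

theorem isField_residueField {Y : Scheme.{u}} (y : Y) : IsField (Y.residueField y) :=
  Field.toIsField (IsLocalRing.ResidueField (Y.presheaf.stalk y))

/-- Bounded fibre degrees, read on field-valued points. -/
theorem fibreDegLE_iff {X Y : Scheme.{u}} (f : X ⟶ Y) (n : ℕ) :
    BddFib.FibreDegLE f n ↔ ∀ (k : Type u) [Field k] (g : Spec (CommRingCat.of k) ⟶ Y),
      BddFib.FiniteOfDegLE (CommRingCat.of k) (pullback.snd f g) n := by
  constructor
  · intro h k _ g
    obtain ⟨y, e, rfl⟩ : ∃ (y : Y) (e : Y.residueField y ⟶ CommRingCat.of k),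
        g = Spec.map e ≫ Y.fromSpecResidueField y :=
      ⟨_, _, ((Scheme.SpecToEquivOfField k Y).symm_apply_apply g).symm⟩
    have sq : IsPullback (pullback.map f (Spec.map e ≫ Y.fromSpecResidueField y) f (Y.fromSpecResidueField y)
        (𝟙 X) (Spec.map e) (𝟙 Y) (by simp) (by simp))
        (pullback.snd f (Spec.map e ≫ Y.fromSpecResidueField y)) (f.fiberToSpecResidueField y) (Spec.map e) := by
      refine .of_right (h₁₂ := pullback.fst f (Y.fromSpecResidueField y)) ?_ ?_
        (IsPullback.of_hasPullback f (Y.fromSpecResidueField y))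
      · have hfst : pullback.map f (Spec.map e ≫ Y.fromSpecResidueField y) f (Y.fromSpecResidueField y)
            (𝟙 X) (Spec.map e) (𝟙 Y) (by simp) (by simp) ≫ pullback.fst f (Y.fromSpecResidueField y) =
            pullback.fst f (Spec.map e ≫ Y.fromSpecResidueField y) :=
          (pullback.lift_fst _ _ _).trans (Category.comp_id _)
        rw [hfst]
        exact IsPullback.of_hasPullback f (Spec.map e ≫ Y.fromSpecResidueField y)
      · exact pullback.lift_snd _ _ _
    exact (of_isPullback (isField_residueField y) (Field.toIsField k) _ _ _ _ sq n).1 (h y)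
  · intro h y
    letI : Field (Y.residueField y) := (isField_residueField y).toField
    exact h (Y.residueField y) (Y.fromSpecResidueField y)

end Groth.Agent.H26BddFib
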