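import Groth.Agent.H26BddFib.Points
import Mathlib.AlgebraicGeometry.Limits
import Mathlib.RingTheory.Spectrum.Prime.Noetherian
import Mathlib.RingTheory.Artinian.Ring

/-! Finite spaces and degrees of composites. -/

set_option autoImplicit false

universe u

open CategoryTheory Limits AlgebraicGeometry TopologicalSpace TensorProduct

namespace Groth.Agent.H26BddFib

variable {k : Type u} [Field k]

theorem base_change {X Y X' Y' : Scheme.{u}} {f : X ⟶ Y} {g : Y' ⟶ Y} {f' : X' ⟶ Y'} {g' : X' ⟶ X}
    (h : IsPullback g' f' f g) {n : ℕ} (hf : BddFib.FibreDegLE f n) : BddFib.FibreDegLE f' n := by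
  rw [fibreDegLE_iff] at hf ⊢
  intro k _ a
  have sq := (IsPullback.of_hasPullback f' a).paste_horiz h
  rw [← sq.isoPullback_hom_snd]
  exact of_iso (Field.toIsField k) _ _ (hf k (a ≫ g))

theorem iso_comp {X X' Y : Scheme.{u}} (e : X' ⟶ X) [IsIso e] {f : X ⟶ Y} {n : ℕ}
    (hf : BddFib.FibreDegLE f n) : BddFib.FibreDegLE (e ≫ f) n :=
  base_change (g' := e) (g := 𝟙 Y) (IsPullback.of_horiz_isIso ⟨by simp⟩) hf

theorem comp_iso {X Y Y' : Scheme.{u}} (e : Y ⟶ Y') [IsIso e] {f : X ⟶ Y} {n : ℕ}
    (hf : BddFib.FibreDegLE f n) : BddFib.FibreDegLE (f ≫ e) n :=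
  base_change (g' := 𝟙 X) (g := inv e) (IsPullback.of_horiz_isIso ⟨by simp⟩) hf

theorem specFD (A : Type u) [CommRing A] [Algebra k A] (n : ℕ) :
    BddFib.FiniteOfDegLE (CommRingCat.of k) (Spec.map (CommRingCat.ofHom (algebraMap k A))) n ↔
      Module.Finite k A ∧ Module.finrank k A ≤ n := by
  rw [finiteOfDegLE_iff (K := CommRingCat.of k) (Field.toIsField k), IsFinite.SpecMap_iff]
  constructor
  · rintro ⟨hf, hn⟩
    haveI := RingHom.finite_algebraMap.mp hf
    have h := hn (Classical.arbitrary (PrimeSpectrum k))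
    rw [Scheme.Hom.finrank_SpecMap_algebraMap, Module.rankAtStalk_eq_finrank_of_free] at h
    exact ⟨inferInstance, h⟩
  · rintro ⟨hf, hn⟩
    refine ⟨RingHom.finite_algebraMap.mpr hf, fun x => ?_⟩
    have h := Scheme.Hom.finrank_SpecMap_algebraMap k A x
    rw [Module.rankAtStalk_eq_finrank_of_free] at h
    exact h.trans_le hn

theorem discrete_of_finiteOfDegLE {U : Scheme.{u}} {p : U ⟶ Spec (CommRingCat.of k)} {m : ℕ}
    (h : BddFib.FiniteOfDegLE (CommRingCat.of k) p m) : DiscreteTopology U := by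
  letI : Algebra k Γ(U, ⊤) := BddFib.secAlgebra (CommRingCat.of k) p
  obtain ⟨ha, hf, -⟩ : IsAffine U ∧ Module.Finite k Γ(U, ⊤) ∧ Module.finrank k Γ(U, ⊤) ≤ m := h
  haveI : IsArtinianRing Γ(U, ⊤) := isArtinian_of_tower k (inferInstance : IsArtinian k Γ(U, ⊤))
  haveI : DiscreteTopology (Spec Γ(U, ⊤)) := inferInstanceAs (DiscreteTopology (PrimeSpectrum Γ(U, ⊤)))
  exact U.isoSpec.hom.homeomorph.symm.discreteTopology

theorem discrete_fiber {X Y : Scheme.{u}} {f : X ⟶ Y} {n : ℕ} (hf : BddFib.FibreDegLE f n) (y : Y) :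
    Finite (f.fiber y) ∧ DiscreteTopology (f.fiber y) := by
  letI : Field (Y.residueField y) := (isField_residueField y).toField
  exact ⟨(finite_and_sum_le (k := Y.residueField y) _ (hf y)).1,
    discrete_of_finiteOfDegLE (k := Y.residueField y) (hf y)⟩

theorem finite_discrete_source {X Y : Scheme.{u}} [Finite Y] [DiscreteTopology Y] {f : X ⟶ Y} {n : ℕ}
    (hf : BddFib.FibreDegLE f n) : Finite X ∧ DiscreteTopology X := by
  constructor
  · have : ∀ y, Finite (f ⁻¹' {y}) := fun y =>
      haveI := (discrete_fiber hf y).1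
      Finite.of_equiv _ (f.fiberHomeo y).toEquiv
    refine Finite.of_equiv (Σ y : Y, f ⁻¹' {y}) (Equiv.sigmaFiberEquiv f.base)
  · refine discreteTopology_iff_isOpen_singleton.2 fun x => ?_
    haveI := (discrete_fiber hf (f x)).2
    haveI : DiscreteTopology (f ⁻¹' {f x}) := (f.fiberHomeo (f x)).discreteTopology
    have ho : IsOpen (f ⁻¹' {f x}) := (isOpen_discrete _).preimage f.continuous
    have := ho.isOpenEmbedding_subtypeVal.isOpenMap _ (isOpen_discrete ({⟨x, rfl⟩} : Set (f ⁻¹' {f x})))
    simpa using this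

theorem exists_span_of_fibres {B A : Type u} [CommRing B] [IsArtinianRing B] [CommRing A] [Algebra B A] (n : ℕ)
    (h : ∀ q : Ideal B, q.IsMaximal → ∃ a : Fin n → A, ∀ z : A, ∃ c : Fin n → B,
      z - ∑ i, c i • a i ∈ q.map (algebraMap B A)) :
    ∃ a : Fin n → A, Submodule.span B (Set.range a) = ⊤ := by
  classical
  haveI : Finite {q : Ideal B // q.IsMaximal} := Finite.of_equiv _ (MaximalSpectrum.equivSubtype B)
  haveI := Fintype.ofFinite {q : Ideal B // q.IsMaximal}
  choose a ha using fun q : {q : Ideal B // q.IsMaximal} => h q.1 q.2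
  have hco0 : Pairwise (Function.onFun IsCoprime fun q : {q : Ideal B // q.IsMaximal} => q.1) := fun p q hpq =>
    Ideal.isCoprime_iff_sup_eq.2 (p.2.coprime_of_ne q.2 fun e => hpq (Subtype.ext e))
  have hco : Pairwise (Function.onFun IsCoprime fun q : {q : Ideal B // q.IsMaximal} => q.1.map (algebraMap B A)) :=
    fun p q hpq => (hco0 hpq).map (Ideal.mapHom (algebraMap B A))
  choose b hb using fun i => Ideal.exists_forall_sub_mem_ideal hco fun q => a q i
  refine ⟨b, eq_top_iff.2 ?_⟩
  set N := Submodule.span B (Set.range b)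
  set P : Ideal B := ⨅ q : {q : Ideal B // q.IsMaximal}, q.1
  have hP : IsNilpotent P := by
    have : P = Ring.jacobson B := by
      rw [Ring.jacobson_eq_sInf_isMaximal, sInf_eq_iInf']
      rfl
    rw [this, ← Ideal.jacobson_bot]
    exact IsArtinianRing.isNilpotent_jacobson_bot
  have key : ∀ z : A, ∃ w ∈ N, z - w ∈ P.map (algebraMap B A) := by
    intro z
    choose c hc using fun q => ha q z
    choose d hd using fun i => Ideal.exists_forall_sub_mem_ideal hco0 fun q => c q i
    refine ⟨∑ i, d i • b i, N.sum_mem fun i _ => N.smul_mem _ (Submodule.subset_span ⟨i, rfl⟩), ?_⟩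
    have hmap : (⨅ q : {q : Ideal B // q.IsMaximal}, q.1.map (algebraMap B A)) = P.map (algebraMap B A) := by
      have h1 : P = ∏ q : {q : Ideal B // q.IsMaximal}, q.1 := by
        rw [Ideal.prod_eq_iInf_of_pairwise_isCoprime (fun p _ q _ hpq => hco0 hpq)]
        simp [P]
      rw [h1, ← Ideal.mapHom_apply, map_prod]
      simp only [Ideal.mapHom_apply]
      rw [Ideal.prod_eq_iInf_of_pairwise_isCoprime (fun p _ q _ hpq => hco hpq)]
      simp
    rw [← hmap, Ideal.mem_iInf]
    intro q
    have e1 : z - ∑ i, d i • b i = (z - ∑ i, c q i • a q i) - ∑ i, (d i • b i - c q i • a q i) := by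
      rw [Finset.sum_sub_distrib]; abel
    rw [e1]
    refine sub_mem (hc q) (Ideal.sum_mem _ fun i _ => ?_)
    have e2 : d i • b i - c q i • a q i = algebraMap B A (d i - c q i) * b i + c q i • (b i - a q i) := by
      rw [smul_sub, Algebra.smul_def, Algebra.smul_def, Algebra.smul_def, map_sub]; ring
    rw [e2]
    exact add_mem (Ideal.mul_mem_right _ _ (Ideal.mem_map_of_mem _ (hd i q))) (Submodule.smul_of_tower_mem _ _ (hb i q))
  have hsmul : ∀ (j : ℕ) (z : A), ∃ w ∈ N, z - w ∈ (P ^ j).map (algebraMap B A) := by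
    intro j
    induction j with
    | zero => exact fun z => ⟨0, N.zero_mem, by simp [Ideal.map_top]⟩
    | succ j ih =>
      have hsub : ∀ y ∈ (P ^ j).map (algebraMap B A), ∃ w ∈ N, y - w ∈ (P ^ (j + 1)).map (algebraMap B A) := by
        intro y hy
        induction hy using Submodule.span_induction with
        | mem y hy =>
          obtain ⟨t, ht, rfl⟩ := hy
          obtain ⟨w, hw, hw'⟩ := key 1
          refine ⟨t • w, N.smul_mem t hw, ?_⟩
          rw [Algebra.smul_def, show algebraMap B A t - algebraMap B A t * w = algebraMap B A t * (1 - w) by ring,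
            pow_succ, Ideal.map_mul]
          exact Ideal.mul_mem_mul (Ideal.mem_map_of_mem _ ht) hw'
        | zero => exact ⟨0, N.zero_mem, by simp⟩
        | add y y' _ _ hy hy' =>
          obtain ⟨w, hw, h1⟩ := hy
          obtain ⟨w', hw', h2⟩ := hy'
          exact ⟨w + w', N.add_mem hw hw', by rw [add_sub_add_comm]; exact add_mem h1 h2⟩
        | smul s y hy0 hy =>
          obtain ⟨w, hw, h1⟩ := hy
          obtain ⟨v, hv, hv'⟩ := key (s * w)
          -- expand `s * w` once more
          have hP1 : ∀ t ∈ (P ^ j : Ideal B), ∀ e : A, ∃ x ∈ N, algebraMap B A t * e - x ∈ (P ^ (j + 1)).map (algebraMap B A) := by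
            intro t ht e
            obtain ⟨x, hx, hx'⟩ := key e
            refine ⟨t • x, N.smul_mem t hx, ?_⟩
            rw [Algebra.smul_def, ← mul_sub, pow_succ, Ideal.map_mul]
            exact Ideal.mul_mem_mul (Ideal.mem_map_of_mem _ ht) hx'
          clear hw h1 hv hv' w v
          induction hy0 using Submodule.span_induction generalizing s with
          | mem y hy =>
            obtain ⟨t, ht, rfl⟩ := hy
            obtain ⟨x, hx, hx'⟩ := hP1 t ht s
            exact ⟨x, hx, by rwa [smul_eq_mul, mul_comm]⟩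
          | zero => exact ⟨0, N.zero_mem, by simp⟩
          | add y y' _ _ hy hy' =>
            obtain ⟨x, hx, h1⟩ := hy s
            obtain ⟨x', hx', h2⟩ := hy' s
            exact ⟨x + x', N.add_mem hx hx', by rw [smul_add, add_sub_add_comm]; exact add_mem h1 h2⟩
          | smul r y _ hy =>
            obtain ⟨x, hx, h1⟩ := hy (s * r)
            exact ⟨x, hx, by rwa [smul_smul]⟩
      intro z
      obtain ⟨w, hw, h1⟩ := ih z
      obtain ⟨v, hv, h2⟩ := hsub _ h1
      exact ⟨w + v, N.add_mem hw hv, by rwa [← sub_sub]⟩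
  obtain ⟨j, hj⟩ := hP
  intro z _
  obtain ⟨w, hw, h1⟩ := hsmul j z
  rw [hj, Ideal.zero_eq_bot, Ideal.map_bot, Ideal.mem_bot, sub_eq_zero] at h1
  exact h1 ▸ hw

theorem algebra_comp {B A : Type u} [CommRing B] [CommRing A] [Algebra k B] [Algebra k A] [Algebra B A]
    [IsScalarTower k B A] [Module.Finite k B] {n m : ℕ} (hm : Module.finrank k B ≤ m)
    (h : ∀ q : Ideal B, [q.IsMaximal] → Module.Finite q.ResidueField (q.ResidueField ⊗[B] A) ∧
      Module.finrank q.ResidueField (q.ResidueField ⊗[B] A) ≤ n) :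
    Module.Finite k A ∧ Module.finrank k A ≤ n * m := by
  classical
  haveI : IsArtinianRing B := isArtinian_of_tower k (inferInstance : IsArtinian k B)
  have hq : ∀ q : Ideal B, q.IsMaximal → ∃ a : Fin n → A, ∀ z : A, ∃ c : Fin n → B,
      z - ∑ i, c i • a i ∈ q.map (algebraMap B A) := by
    intro q hq
    obtain ⟨hf, hn⟩ := h q
    haveI := hf
    have hsr : Function.Surjective (algebraMap B q.ResidueField) := Ideal.algebraMap_residueField_surjective q
    have hsurj : Function.Surjective (TensorProduct.mk B q.ResidueField A 1) :=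
      TensorProduct.mk_surjective B A q.ResidueField hsr
    let bb := Module.finBasis q.ResidueField (q.ResidueField ⊗[B] A)
    choose g hg using fun i => hsurj (bb i)
    refine ⟨fun i => if hi : (i : ℕ) < Module.finrank q.ResidueField (q.ResidueField ⊗[B] A) then g ⟨i, hi⟩ else 0,
      fun z => ?_⟩
    choose c hc using fun i => hsr (bb.repr (TensorProduct.mk B q.ResidueField A 1 z) i)
    refine ⟨fun i => if hi : (i : ℕ) < Module.finrank q.ResidueField (q.ResidueField ⊗[B] A) then c ⟨i, hi⟩ else 0, ?_⟩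
    have hsum : (∑ i : Fin n, (if hi : (i : ℕ) < Module.finrank q.ResidueField (q.ResidueField ⊗[B] A) then c ⟨i, hi⟩ else 0) •
        (if hi : (i : ℕ) < Module.finrank q.ResidueField (q.ResidueField ⊗[B] A) then g ⟨i, hi⟩ else 0)) =
        ∑ i, c i • g i := by
      symm
      refine Finset.sum_of_injOn (fun i => Fin.castLE hn i) (fun i _ j _ hij => Fin.castLE_injective hn hij)
        (fun i _ => Finset.mem_univ _) (fun i _ hi => ?_) (fun i _ => by simp)
      rw [dif_neg, zero_smul]
      exact fun hlt => hi ⟨⟨i, hlt⟩, Finset.mem_univ _, Fin.ext rfl⟩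
    rw [hsum]
    have h0 : TensorProduct.mk B q.ResidueField A 1 (z - ∑ i, c i • g i) = 0 := by
      rw [map_sub, map_sum]
      simp only [map_smul, hg, ← algebraMap_smul q.ResidueField (c _), hc]
      rw [bb.sum_repr, sub_self]
    have hker : LinearMap.ker (TensorProduct.mk B q.ResidueField A 1) ≤ (q.map (algebraMap B A)).restrictScalars B := by
      intro y hy
      have e := (TensorProduct.quotTensorEquivQuotSMul A q).symm.injective
      let φ : q.ResidueField ⊗[B] A →ₗ[B] (A ⧸ q • (⊤ : Submodule B A)) :=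
        (TensorProduct.quotTensorEquivQuotSMul A q).toLinearMap ∘ₗ
          (AlgEquiv.ofBijective (IsScalarTower.toAlgHom B (B ⧸ q) q.ResidueField)
            (Ideal.bijective_algebraMap_quotient_residueField q)).symm.toLinearEquiv.toLinearMap.rTensor A
      have h1 : φ ((1 : q.ResidueField) ⊗ₜ y) = Submodule.Quotient.mk y := by
        simp only [φ, LinearMap.comp_apply, LinearMap.rTensor_tmul, LinearEquiv.coe_coe, AlgEquiv.toLinearEquiv_apply,
          map_one, TensorProduct.quotTensorEquivQuotSMul_mk_one_tmul]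
      have h2 : (Submodule.Quotient.mk y : A ⧸ q • (⊤ : Submodule B A)) = 0 := by
        rw [← h1, show (1 : q.ResidueField) ⊗ₜ[B] y = 0 from hy, map_zero]
      rw [Submodule.Quotient.mk_eq_zero, Ideal.smul_top_eq_map] at h2
      exact h2
    exact hker h0
  obtain ⟨a, ha⟩ := exists_span_of_fibres n hq
  let φ : (Fin n → B) →ₗ[k] A := (Fintype.linearCombination B a).restrictScalars k
  have hφ : Function.Surjective φ := by
    rw [← Fintype.range_linearCombination B a] at ha
    exact fun y => (LinearMap.range_eq_top.1 ha : _) y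
  refine ⟨Module.Finite.of_surjective φ hφ, ?_⟩
  have h1 := φ.finrank_range_le
  rw [LinearMap.range_eq_top.2 hφ, finrank_top, Module.finrank_pi_fintype, Finset.sum_const, Finset.card_univ,
    Fintype.card_fin, smul_eq_mul] at h1
  exact h1.trans (Nat.mul_le_mul_left n hm)

theorem finiteOfDegLE_comp {U T : Scheme.{u}} {p : U ⟶ Spec (CommRingCat.of k)} {h : T ⟶ U} {n m : ℕ}
    (hU : BddFib.FiniteOfDegLE (CommRingCat.of k) p m) (hh : BddFib.FibreDegLE h n) :
    BddFib.FiniteOfDegLE (CommRingCat.of k) (h ≫ p) (n * m) := by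
  haveI := discrete_of_finiteOfDegLE hU
  haveI := (finite_and_sum_le p hU).1
  obtain ⟨_, _⟩ := finite_discrete_source hh
  -- everything is affine
  obtain ⟨B, eU, -⟩ : ∃ (B : CommRingCat.{u}) (e : U ≅ Spec B), e = e := ⟨_, U.isoSpec, rfl⟩
  obtain ⟨A, eT, -⟩ : ∃ (A : CommRingCat.{u}) (e : T ≅ Spec A), e = e := ⟨_, T.isoSpec, rfl⟩
  obtain ⟨φ, hφ⟩ := Spec.map_surjective (eT.inv ≫ h ≫ eU.hom)
  obtain ⟨ψ, hψ⟩ := Spec.map_surjective (eU.inv ≫ p)
  letI : Algebra B A := φ.hom.toAlgebra
  letI : Algebra k B := ψ.hom.toAlgebra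
  letI : Algebra k A := (φ.hom.comp ψ.hom).toAlgebra
  haveI : IsScalarTower k B A := IsScalarTower.of_algebraMap_eq fun _ => rfl
  have hB : BddFib.FiniteOfDegLE (CommRingCat.of k) (Spec.map (CommRingCat.ofHom (algebraMap k B))) m := by
    rw [show CommRingCat.ofHom (algebraMap k B) = ψ from rfl, hψ]
    exact of_iso (Field.toIsField k) _ _ hU
  obtain ⟨hBf, hBm⟩ := (specFD B m).1 hB
  haveI := hBf
  have hφn : BddFib.FibreDegLE (Spec.map φ) n := by
    rw [hφ]
    exact iso_comp _ (comp_iso _ hh)
  have hA : Module.Finite k A ∧ Module.finrank k A ≤ n * m := by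
    refine algebra_comp hBm fun q _ => ?_
    have h1 := (fibreDegLE_iff _ _).1 hφn q.ResidueField
      (Spec.map (CommRingCat.ofHom (algebraMap B q.ResidueField)))
    have sq := (IsPullback.of_hasPullback (Spec.map φ)
      (Spec.map (CommRingCat.ofHom (algebraMap B q.ResidueField)))).flip
    have h2 : BddFib.FiniteOfDegLE (CommRingCat.of q.ResidueField)
        (Spec.map (CommRingCat.ofHom (algebraMap q.ResidueField (q.ResidueField ⊗[B] A)))) n := by
      have e := pullbackSpecIso_inv_fst B q.ResidueField A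
      have e2 : Spec.map (CommRingCat.ofHom (algebraMap q.ResidueField (q.ResidueField ⊗[B] A))) =
          ((pullbackSpecIso B q.ResidueField A).inv ≫ (pullbackSymmetry _ (Spec.map φ)).hom) ≫
            pullback.snd (Spec.map φ) (Spec.map (CommRingCat.ofHom (algebraMap B q.ResidueField))) := by
        rw [Category.assoc, pullbackSymmetry_hom_comp_snd]
        exact e.symm
      rw [e2]
      exact of_iso (Field.toIsField _) _ _ h1
    exact (specFD _ n).1 h2
  have h3 := (specFD A (n * m)).2 hA
  have h4 : h ≫ p = eT.hom ≫ Spec.map (CommRingCat.ofHom (algebraMap k A)) := by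
    rw [show CommRingCat.ofHom (algebraMap k A) = ψ ≫ φ from rfl, Spec.map_comp, hφ, hψ]
    simp
  rw [h4]
  exact of_iso (Field.toIsField k) _ _ h3

end Groth.Agent.H26BddFib
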