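import Groth.Agent.H26BddFib.Comp
import Mathlib.AlgebraicGeometry.Morphisms.QuasiFinite
import Mathlib.RingTheory.ZariskisMainTheorem

/-! Universally bounded fibres: finite algebras and open covers. -/

set_option autoImplicit false

universe u

open CategoryTheory Limits AlgebraicGeometry TopologicalSpace TensorProduct

namespace Groth.Agent.H26BddFib

theorem comp {X Y Z : Scheme.{u}} {f : X ⟶ Y} {g : Y ⟶ Z} {n m : ℕ} (hf : BddFib.FibreDegLE f n)
    (hg : BddFib.FibreDegLE g m) : BddFib.FibreDegLE (f ≫ g) (n * m) := by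
  rw [fibreDegLE_iff] at hg ⊢
  intro k _ a
  have hh : BddFib.FibreDegLE (pullback.snd f (pullback.fst g a)) n :=
    base_change (IsPullback.of_hasPullback f (pullback.fst g a)) hf
  rw [← ((IsPullback.of_hasPullback f (pullback.fst g a)).paste_vert
    (IsPullback.of_hasPullback g a)).isoPullback_inv_snd]
  exact of_iso (Field.toIsField k) _ _ (finiteOfDegLE_comp (hg k a) hh)

theorem of_span (B S : Type u) [CommRing B] [CommRing S] [Algebra B S] {N : ℕ} (s : Fin N → S)
    (hs : Submodule.span B (Set.range s) = ⊤) :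
    BddFib.FibreDegLE (Spec.map (CommRingCat.ofHom (algebraMap B S))) N := by
  rw [fibreDegLE_iff]
  intro K _ a
  obtain ⟨χ, rfl⟩ := Spec.map_surjective a
  letI : Algebra B K := χ.hom.toAlgebra
  have h1 : Submodule.span K (Set.range fun i => (1 : K) ⊗ₜ[B] s i) = ⊤ := by
    rw [show (Set.range fun i => (1 : K) ⊗ₜ[B] s i) = TensorProduct.mk B K S 1 '' Set.range s from Set.range_comp (TensorProduct.mk B K S 1) s,
      ← Submodule.baseChange_span, hs, Submodule.baseChange_top]
  have h2 : Module.Finite K (K ⊗[B] S) ∧ Module.finrank K (K ⊗[B] S) ≤ N := by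
    refine ⟨Module.finite_def.mpr (h1 ▸ Submodule.fg_span (Set.finite_range _)), ?_⟩
    have := finrank_range_le_card (R := K) (fun i => (1 : K) ⊗ₜ[B] s i)
    rwa [Set.finrank, h1, finrank_top, Fintype.card_fin] at this
  have h3 := (specFD (k := K) (K ⊗[B] S) N).2 h2
  have e : pullback.snd (Spec.map (CommRingCat.ofHom (algebraMap B S))) (Spec.map χ) =
      ((pullbackSymmetry _ _).hom ≫ (pullbackSpecIso B K S).hom) ≫
        Spec.map (CommRingCat.ofHom (algebraMap K (K ⊗[B] S))) := by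
    rw [Category.assoc, show Spec.map (CommRingCat.ofHom (algebraMap K (K ⊗[B] S))) =
      (pullbackSpecIso B K S).inv ≫ pullback.fst _ _ from (pullbackSpecIso_inv_fst B K S).symm,
      Iso.hom_inv_id_assoc]
    exact (pullbackSymmetry_hom_comp_fst _ _).symm
  rw [e]
  exact of_iso (Field.toIsField K) _ _ h3

theorem of_openCover {X Y : Scheme.{u}} (f : X ⟶ Y) {ι : Type*} [Fintype ι] (W : ι → X.Opens)
    (hW : iSup W = ⊤) (n : ι → ℕ) (h : ∀ i, BddFib.FibreDegLE ((W i).ι ≫ f) (n i)) :
    BddFib.FibreDegLE f (∑ i, n i) := by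
  rw [fibreDegLE_iff]
  intro k _ a
  set q := pullback.fst f a
  set p := pullback.snd f a
  have hd : ∀ i, BddFib.FiniteOfDegLE (CommRingCat.of k) ((q ⁻¹ᵁ W i).ι ≫ p) (n i) := by
    intro i
    have sq := (isPullback_morphismRestrict q (W i)).paste_vert (IsPullback.of_hasPullback f a)
    rw [← sq.isoPullback_hom_snd]
    exact of_iso (Field.toIsField k) _ _ ((fibreDegLE_iff _ _).1 (h i) k a)
  have hcov : ∀ x : ↥(pullback f a), ∃ i, x ∈ q ⁻¹ᵁ W i := fun x => by
    have : q x ∈ iSup W := hW ▸ trivial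
    obtain ⟨i, hi⟩ := Opens.mem_iSup.1 this
    exact ⟨i, hi⟩
  haveI : ∀ i, Finite ↥(q ⁻¹ᵁ W i) := fun i => (finite_and_sum_le _ (hd i)).1
  haveI : Finite ↥(pullback f a) := by
    refine Finite.of_surjective (fun z : Σ i, ↥(q ⁻¹ᵁ W i) => z.2.1) fun x => ?_
    obtain ⟨i, hi⟩ := hcov x
    exact ⟨⟨i, x, hi⟩, rfl⟩
  haveI : DiscreteTopology ↥(pullback f a) := by
    refine discreteTopology_iff_isOpen_singleton.2 fun x => ?_
    obtain ⟨i, hi⟩ := hcov x
    haveI : DiscreteTopology ↥(q ⁻¹ᵁ W i) := discrete_of_finiteOfDegLE (hd i)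
    have := (q ⁻¹ᵁ W i).isOpenEmbedding.isOpenMap _
      (isOpen_discrete ({⟨x, hi⟩} : Set ↥(q ⁻¹ᵁ W i)))
    erw [Set.image_singleton] at this
    exact this
  haveI : IsAffine (pullback f a) := inferInstance
  letI := BddFib.secAlgebra (CommRingCat.of k) p
  letI := fun i => BddFib.secAlgebra (CommRingCat.of k) ((q ⁻¹ᵁ W i).ι ≫ p)
  haveI hfi : ∀ i, Module.Finite k Γ(((q ⁻¹ᵁ W i : (pullback f a).Opens) : Scheme.{u}), ⊤) := fun i => (hd i).2.1
  let φ : Γ(pullback f a, ⊤) →ₗ[k] (∀ i, Γ(((q ⁻¹ᵁ W i : (pullback f a).Opens) : Scheme.{u}), ⊤)) :=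
    LinearMap.pi fun i => ({ (q ⁻¹ᵁ W i).ι.appTop.hom with commutes' := fun _ => rfl } :
      Γ(pullback f a, ⊤) →ₐ[k] Γ(((q ⁻¹ᵁ W i : (pullback f a).Opens) : Scheme.{u}), ⊤)).toLinearMap
  have hφ : Function.Injective φ := by
    intro s t hst
    refine (pullback f a).sheaf.eq_of_locally_eq' (fun i => (q ⁻¹ᵁ W i).ι ''ᵁ ⊤) ⊤
      (fun i => homOfLE le_top) ?_ s t fun i => congrFun hst i
    intro x _
    obtain ⟨i, hi⟩ := hcov x
    exact Opens.mem_iSup.2 ⟨i, by rwa [Scheme.Opens.ι_image_top]⟩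
  refine ⟨inferInstance, Module.Finite.of_injective φ hφ, ?_⟩
  refine (LinearMap.finrank_le_finrank_of_injective hφ).trans ?_
  rw [Module.finrank_pi_fintype]
  exact Finset.sum_le_sum fun i _ => (hd i).2.2

/-- Near each point, a quasi-finite morphism of finite type has bounded fibres. -/
theorem exists_local_bound {B A : Type u} [CommRing B] [CommRing A] [Algebra B A] [Algebra.FiniteType B A]
    (P : Ideal A) [P.IsPrime] [Algebra.WeaklyQuasiFiniteAt B P]
    (h1 : ∀ {U V : Scheme.{u}} (j : U ⟶ V) [IsOpenImmersion j], BddFib.FibreDegLE j 1) :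
    ∃ r : A, r ∉ P ∧ ∃ N : ℕ, BddFib.FibreDegLE
      (Spec.map (CommRingCat.ofHom (algebraMap A (Localization.Away r))) ≫
        Spec.map (CommRingCat.ofHom (algebraMap B A))) N := by
  obtain ⟨S', hfg, r, hr, hbij⟩ := Algebra.QuasiFiniteAt.exists_fg_and_exists_notMem_and_awayMap_bijective (R := B) P
  refine ⟨r.1, hr, ?_⟩
  haveI : Module.Finite B S' := ⟨(Submodule.fg_top _).mpr hfg⟩
  obtain ⟨N, s, hs⟩ := Module.Finite.exists_fin (R := B) (M := S')
  let e : CommRingCat.of (Localization.Away r) ⟶ CommRingCat.of (Localization.Away r.1) :=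
    CommRingCat.ofHom (Localization.awayMap S'.val.toRingHom r)
  haveI : IsIso e := ConcreteCategory.isIso_iff_bijective e |>.2 hbij
  haveI : IsOpenImmersion (Spec.map (CommRingCat.ofHom (algebraMap S' (Localization.Away r)))) :=
    IsOpenImmersion.of_isLocalization r
  refine ⟨1 * N, ?_⟩
  have e1 : Spec.map (CommRingCat.ofHom (algebraMap A (Localization.Away r.1))) ≫
      Spec.map (CommRingCat.ofHom (algebraMap B A)) =
      Spec.map e ≫ (Spec.map (CommRingCat.ofHom (algebraMap S' (Localization.Away r))) ≫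
        Spec.map (CommRingCat.ofHom (algebraMap B S'))) := by
    rw [← Spec.map_comp, ← Spec.map_comp, ← Spec.map_comp]
    congr 1
    ext b
    show algebraMap A (Localization.Away r.1) (algebraMap B A b) =
      Localization.awayMap S'.val.toRingHom r (algebraMap S' (Localization.Away r) (algebraMap B S' b))
    rw [Localization.awayMap, IsLocalization.Away.map, IsLocalization.map_eq]
    rfl
  rw [e1]
  exact iso_comp _ (comp (h1 _) (of_span B S' s hs))

end Groth.Agent.H26BddFib
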