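import Groth.Agent.H26BddFib.Basic
import Mathlib.RingTheory.Ideal.Quotient.Operations
import Mathlib.LinearAlgebra.FiniteDimensional.Basic

/-! Points of finite schemes over fields and their residue degrees. -/

set_option autoImplicit false

universe u

open CategoryTheory Limits AlgebraicGeometry TopologicalSpace

namespace Groth.Agent.H26BddFib

variable {k : Type u} [Field k] {T : Scheme.{u}}

theorem Γevaluation_surjective [IsAffine T] [Algebra k Γ(T, ⊤)] [Module.Finite k Γ(T, ⊤)] (x : T) :
    Function.Surjective (T.Γevaluation x) := by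
  intro c
  obtain ⟨c, rfl⟩ := T.residue_surjective x c
  letI : Algebra Γ(T, ⊤) (T.presheaf.stalk x) := (T.presheaf.germ ⊤ x trivial).hom.toAlgebra
  haveI : IsLocalization.AtPrime (T.presheaf.stalk x) ((isAffineOpen_top T).primeIdealOf ⟨x, trivial⟩).asIdeal :=
    (isAffineOpen_top T).isLocalization_stalk ⟨x, trivial⟩
  obtain ⟨a, s, hs⟩ := IsLocalization.exists_mk'_eq
    ((isAffineOpen_top T).primeIdealOf ⟨x, trivial⟩).asIdeal.primeCompl c
  letI : Algebra k (T.residueField x) := ((T.Γevaluation x).hom.comp (algebraMap k Γ(T, ⊤))).toAlgebra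
  let ev : Γ(T, ⊤) →ₐ[k] T.residueField x := { (T.Γevaluation x).hom with commutes' := fun _ => rfl }
  haveI : Module.Finite k ev.range := Module.Finite.of_surjective ev.rangeRestrict.toLinearMap
    ev.rangeRestrict_surjective
  letI : Field (T.residueField x) := (isField_residueField x).toField
  have hne : ev s.1 ≠ 0 := by
    intro h0
    have h1 : T.residue x (algebraMap Γ(T, ⊤) (T.presheaf.stalk x) s.1) = 0 := h0
    have h2 := (IsLocalization.map_units (T.presheaf.stalk x) s).map (T.residue x).hom
    exact not_isUnit_zero (M₀ := T.residueField x) (h1 ▸ h2)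
  have hinj : Function.Injective (LinearMap.mulLeft k (⟨ev s.1, s.1, rfl⟩ : ev.range)) := fun p q hpq =>
    Subtype.ext (mul_left_cancel₀ hne (congrArg Subtype.val hpq))
  obtain ⟨t, ht⟩ := LinearMap.surjective_of_injective hinj ⟨ev a, a, rfl⟩
  obtain ⟨b, hb⟩ := t.2
  refine ⟨b, ?_⟩
  refine mul_left_cancel₀ hne ?_
  have h1 : ev s.1 * ev b = ev a := by
    show ev s.1 * _ = _
    rw [show ev b = t.1 from hb]
    exact congrArg Subtype.val ht
  show ev s.1 * ev b = ev s.1 * T.residue x c
  rw [h1, ← hs]
  show T.residue x (algebraMap Γ(T, ⊤) (T.presheaf.stalk x) a) = T.residue x (algebraMap _ _ s.1) * _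
  rw [← map_mul, IsLocalization.mk'_spec']

theorem evalPi_surjective [IsAffine T] [Algebra k Γ(T, ⊤)] [Module.Finite k Γ(T, ⊤)] (s : Finset T) :
    Function.Surjective (fun a (x : s) => T.Γevaluation x.1 a) := by
  intro c
  choose b hb using fun x : s => Γevaluation_surjective (k := k) x.1 (c x)
  have hmax : ∀ x : T, (RingHom.ker (T.Γevaluation x).hom).IsMaximal := fun x => by
    letI : Field (T.residueField x) := (isField_residueField x).toField
    exact RingHom.ker_isMaximal_of_surjective _ (Γevaluation_surjective (k := k) x)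
  have hne : ∀ x y : T, x ≠ y → RingHom.ker (T.Γevaluation x).hom ≠ RingHom.ker (T.Γevaluation y).hom := by
    intro x y hxy he
    have hmem : ∀ a : Γ(T, ⊤), x ∈ T.basicOpen a ↔ y ∈ T.basicOpen a := fun a => by
      have h1 := SetLike.ext_iff.1 he a
      simp only [RingHom.mem_ker] at h1
      rw [Scheme.evaluation_eq_zero_iff_notMem_basicOpen, Scheme.evaluation_eq_zero_iff_notMem_basicOpen] at h1
      exact not_iff_not.1 h1
    refine hxy (Inseparable.eq ((inseparable_iff_forall_isOpen).2 fun U hU => ?_))
    constructor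
    · intro hx
      obtain ⟨a, ha, hxa⟩ := (isAffineOpen_top T).exists_basicOpen_le (V := ⟨U, hU⟩) ⟨x, hx⟩ trivial
      exact ha ((hmem a).1 hxa)
    · intro hy
      obtain ⟨a, ha, hya⟩ := (isAffineOpen_top T).exists_basicOpen_le (V := ⟨U, hU⟩) ⟨y, hy⟩ trivial
      exact ha ((hmem a).2 hya)
  have hco : Pairwise (Function.onFun IsCoprime fun x : s => RingHom.ker (T.Γevaluation x.1).hom) := fun x y hxy =>
    Ideal.isCoprime_iff_sup_eq.2 ((hmax x.1).coprime_of_ne (hmax y.1) (hne _ _ fun h => hxy (Subtype.ext h)))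
  obtain ⟨a, ha⟩ := Ideal.exists_forall_sub_mem_ideal hco b
  refine ⟨a, funext fun x => ?_⟩
  have h1 := ha x
  rw [RingHom.mem_ker, map_sub, sub_eq_zero] at h1
  exact h1.trans (hb x)

theorem finite_and_sum_le (p : T ⟶ Spec (CommRingCat.of k)) {n : ℕ}
    (h : BddFib.FiniteOfDegLE (CommRingCat.of k) p n) :
    Finite T ∧ ∑ᶠ x : T, p.residueDegree x ≤ n ∧ ∀ x : T, 1 ≤ p.residueDegree x := by
  classical
  letI : Algebra k Γ(T, ⊤) := BddFib.secAlgebra (CommRingCat.of k) p
  obtain ⟨ha, hf, hn⟩ : IsAffine T ∧ Module.Finite k Γ(T, ⊤) ∧ Module.finrank k Γ(T, ⊤) ≤ n := h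
  letI A : ∀ x : T, Algebra k (T.residueField x) := fun x =>
    ((T.Γevaluation x).hom.comp (algebraMap k Γ(T, ⊤))).toAlgebra
  have hsum : ∀ s : Finset T, ∑ x ∈ s, Module.finrank k (T.residueField x) ≤ n := by
    intro s
    let Φ : Γ(T, ⊤) →ₐ[k] ((x : s) → T.residueField x.1) :=
      Pi.algHom k _ fun x => { (T.Γevaluation x.1).hom with commutes' := fun _ => rfl }
    have hΦ : Function.Surjective Φ.toLinearMap := evalPi_surjective (k := k) s
    haveI : ∀ x : s, Module.Finite k (T.residueField x.1) := fun x =>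
      Module.Finite.of_surjective ({ (T.Γevaluation x.1).hom with commutes' := fun _ => rfl } :
        Γ(T, ⊤) →ₐ[k] T.residueField x.1).toLinearMap (Γevaluation_surjective (k := k) x.1)
    have h1 := Φ.toLinearMap.finrank_range_le
    rw [LinearMap.range_eq_top.2 hΦ, finrank_top, Module.finrank_pi_fintype,
      Finset.sum_coe_sort s (fun x => Module.finrank k (T.residueField x))] at h1
    exact h1.trans hn
  have hdeg : ∀ x : T, p.residueDegree x = Module.finrank k (T.residueField x) := by
    intro x
    let j : k →+* (Spec (CommRingCat.of k)).residueField (p x) :=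
      ((Scheme.ΓSpecIso (CommRingCat.of k)).inv ≫ (Spec (CommRingCat.of k)).Γevaluation (p x)).hom
    have hj : Function.Surjective j := by
      letI : Algebra k Γ(Spec (CommRingCat.of k), ⊤) := (Scheme.ΓSpecIso (CommRingCat.of k)).inv.hom.toAlgebra
      haveI : Module.Finite k Γ(Spec (CommRingCat.of k), ⊤) := RingHom.finite_algebraMap.mp
        (RingHom.Finite.of_surjective _ (ConcreteCategory.bijective_of_isIso (Scheme.ΓSpecIso (CommRingCat.of k)).inv).2)
      exact (Γevaluation_surjective (k := k) (p x)).comp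
        (ConcreteCategory.bijective_of_isIso (Scheme.ΓSpecIso (CommRingCat.of k)).inv).2
    letI : Field ((Spec (CommRingCat.of k)).residueField (p x)) := (isField_residueField _).toField
    letI := (p.residueFieldMap x).hom.toAlgebra
    refine (Algebra.finrank_eq_of_equiv_equiv (RingEquiv.ofBijective j ⟨j.injective, hj⟩)
      (RingEquiv.refl _) ?_).symm
    ext c
    show p.residueFieldMap x ((Spec (CommRingCat.of k)).Γevaluation (p x) ((Scheme.ΓSpecIso (CommRingCat.of k)).inv c)) = _
    rw [Scheme.Γevaluation_naturality_apply]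
    rfl
  have hpos : ∀ x : T, 1 ≤ Module.finrank k (T.residueField x) := fun x => by
    letI : Field (T.residueField x) := (isField_residueField x).toField
    haveI : Module.Finite k (T.residueField x) :=
      Module.Finite.of_surjective ({ (T.Γevaluation x).hom with commutes' := fun _ => rfl } :
        Γ(T, ⊤) →ₐ[k] T.residueField x).toLinearMap (Γevaluation_surjective (k := k) x)
    exact Module.finrank_pos
  have hfin : Finite T := by
    by_contra hinf
    rw [not_finite_iff_infinite] at hinf
    obtain ⟨s, hs⟩ := Infinite.exists_subset_card_eq T (n + 1)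
    have := (Finset.card_nsmul_le_sum s _ 1 fun x _ => hpos x).trans (hsum s)
    rw [hs, smul_eq_mul, mul_one] at this
    omega
  refine ⟨hfin, ?_, fun x => (hdeg x).symm ▸ hpos x⟩
  haveI := Fintype.ofFinite T
  rw [finsum_eq_sum_of_fintype, Finset.sum_congr rfl fun x _ => hdeg x]
  exact hsum Finset.univ

end Groth.Agent.H26BddFib
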